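import Cfsg.Agent.L4C.Bb

/-! The pair analysis: no `D`-involution in `A`. -/

set_option autoImplicit false
set_option synthInstance.maxSize 4000

namespace Cfsg.Agent.L4S.Q

open Subgroup

variable {G : Type*} [Group G] {A A' : Subgroup G} {ψ ψ' : U →* G} {α α' : G → B} {ν ν' : G → Bool × Bool}
  {h n1 n2 h' n1' n2' : G}

theorem Cfg.aeq (H : Cfg A ψ α ν h n1 n2) {m x : G}
    (hm : m ∈ normalizer (A : Set G) ⊓ normalizer (ψ.range : Set G))
    (hx : x ∈ normalizer (A : Set G) ⊓ normalizer (ψ.range : Set G)) (e : x⁻¹ * m ∈ centralizer (A : Set G)) :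
    α m = α x := by
  have := H.aK e
  rwa [H.amul _ (inv_mem hx) _ hm, H.ainv hx, inv_mul_eq_one, eq_comm] at this

variable (H : Cfg A ψ α ν h n1 n2) (H' : Cfg A' ψ' α' ν' h' n1' n2')
  (kk : ∀ t ∈ centralizer (A : Set G), t ∈ centralizer (A' : Set G) → t * t = 1 → t = 1)
  (hz : ψ ⟨0, 0, 1⟩ ∈ centralizer (A' : Set G))
  (N1 : ∀ u, ψ u ∈ normalizer (A' : Set G) ⊓ normalizer (ψ'.range : Set G))
include H H' kk hz N1

theorem z_omega {t : G} (tK : t ∈ centralizer (A : Set G)) (t2 : t * t = 1) (t1 : t ≠ 1)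
    (tN : t ∈ normalizer (A' : Set G) ⊓ normalizer (ψ'.range : Set G)) :
    ψ ⟨0, 0, F.w⟩ ∈ centralizer (A' : Set G) := by
  by_contra nw
  have cm {k u} (hk : k ∈ centralizer (A : Set G)) (m : k * ψ u ∈ centralizer (A' : Set G)) v :
      ψ (v * u * v⁻¹ * u⁻¹) ∈ centralizer (A' : Set G) := by
    have := mul_mem (nor_cjK (N1 v).1 m) (inv_mem m)
    rwa [← mul_assoc, ← (H.zK hk v).eq, show k * ψ v * ψ u * (ψ v)⁻¹ * (k * ψ u)⁻¹ =
      k * ψ (v * u * v⁻¹ * u⁻¹) * k⁻¹ by simp [mul_assoc], cj_of_comm (H.zK hk _)] at this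
  have s1 {u} (m : ψ u ∈ centralizer (A' : Set G)) : u = 1 ∨ u = ⟨0, 0, 1⟩ := by
    rcases U.small u with e | e | e | e | ⟨v, e⟩
    exacts [Or.inl e, Or.inr e, absurd (e ▸ m) nw, absurd (e ▸ map_mul ψ _ _ ▸ mul_mem m hz) nw,
      absurd (e ▸ cm (one_mem _) (by rwa [one_mul]) v) nw]
  have s3 (m : t * ψ ⟨0, 0, F.w⟩ ∈ centralizer (A' : Set G)) : False := by
    have c := H.zK tK ⟨0, 0, F.w⟩
    have := nor_cjK (H'.te _ m (by rw [mul4 c, t2, ← map_mul, U.zsq, map_one, one_mul]) (fun e => by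
      have := H.memK (u := ⟨0, 0, F.w⟩) (eq_inv_of_mul_eq_one_right e ▸ inv_mem tK)
      exact absurd this (by decide)) h (by
        rw [← conj_mul, cj_of_comm (mem_cen.1 tK h H.hA).symm, H.hconj,
          show hh ⟨0, 0, F.w⟩ = ⟨0, 0, F.w⟩ * ⟨0, 0, 1⟩ by decide, map_mul, ← mul_assoc]
        exact mul_mem m hz)) hz
    rw [H.hconj] at this
    exact nw this
  have s2 {u} (m : t * ψ u ∈ centralizer (A' : Set G)) : False := by
    rcases U.small u with e | e | e | e | ⟨v, e⟩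
    · exact t1 (kk t tK (by simpa [e] using m) t2)
    · exact t1 (kk t tK ((mul_mem_cancel_right hz).1 (e ▸ m)) t2)
    · exact s3 (e ▸ m)
    · exact s3 (by rw [← e, map_mul, ← mul_assoc]; exact mul_mem m hz)
    · exact nw (e ▸ cm tK m v)
  have pK b : cond b t 1 ∈ centralizer (A : Set G) := by cases b; exacts [one_mem _, tK]
  have pN b u : cond b t 1 * ψ u ∈ normalizer (A' : Set G) ⊓ normalizer (ψ'.range : Set G) :=
    mul_mem (by cases b; exacts [one_mem _, tN]) (N1 u)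
  have pa a b : cond (xor a b) t 1 = cond a t 1 * cond b t 1 := by cases a <;> cases b <;> simp [t2]
  have la : ∀ p q, lb true false (p + q) = xor (lb true false p) (lb true false q) := by decide
  have R (m : F × F → U) (ma : ∀ p q, m (p + q) = m p * m q)
      (mi : ∀ p, lb true false p.2 = false → m p = 1 ∨ m p = ⟨0, 0, 1⟩ → p = 0) :=
    B.rank4 (φ := fun p => α' (cond (lb true false p.2) t 1 * ψ (m p)))
      (fun p q => by rw [← H'.amul _ (pN _ _) _ (pN _ _), mul4 (H.zK (pK _) _), ← pa, ← la, ← map_mul, ma]; rfl)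
      fun p e => by
        have e := (H'.aker _ (pN _ _)).1 e
        cases c : lb true false p.2 <;> rw [c] at e
        exacts [mi p c (s1 (by simpa using e)), (s2 e).elim]
  have cf a b x y z z' : α' (cond a t 1 * ψ ⟨x, 0, z⟩) * α' (cond b t 1 * ψ ⟨0, y, z'⟩) =
      α' (ψ ⟨0, 0, x * y⟩) * (α' (cond b t 1 * ψ ⟨0, y, z'⟩) * α' (cond a t 1 * ψ ⟨x, 0, z⟩)) := by
    rw [← H'.amul _ (pN _ _) _ (pN _ _), ← H'.amul _ (pN _ _) _ (pN _ _),
      ← H'.amul _ (N1 _) _ (mul_mem (pN _ _) (pN _ _)), mul4 (H.zK (pK _) _), mul4 (H.zK (pK _) _), ← pa, ← pa,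
      ← mul_assoc (ψ ⟨0, 0, _⟩), ← (H.zK (pK _) _).eq, Bool.xor_comm, mul_assoc, ← map_mul, ← map_mul, ← map_mul]
    congr 3
    simp [U.mul_def]; ring
  have two c : α' (ψ ⟨0, 0, c⟩) = 1 ∨ α' (ψ ⟨0, 0, c⟩) = α' (ψ ⟨0, 0, F.w⟩) := by
    cases c
    exacts [Or.inl (H'.aK (map_one ψ ▸ one_mem _)), Or.inl (H'.aK hz), Or.inr rfl,
      Or.inr (H'.aeq (N1 _) (N1 _) (by rw [← map_inv, ← map_mul]; exact hz))]
  have fin {c d} (k : α' (ψ ⟨0, 0, c⟩) ≠ 1 ∧ α' (ψ ⟨0, 0, d⟩) ≠ 1 ∧ α' (ψ ⟨0, 0, c⟩) ≠ α' (ψ ⟨0, 0, d⟩)) : False :=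
    k.2.2 (((two c).resolve_left k.1).trans ((two d).resolve_left k.2.1).symm)
  have k {u v} (e : α' (cond false t 1 * ψ ⟨1, 0, 0⟩) = B.inl u) (e' : α' (cond false t 1 * ψ ⟨0, F.w, 0⟩) = B.inl v)
      (c : u * v = v * u) : False := by
    have k := cf false false 1 F.w 0 0
    rw [e, e', ← map_mul, c, map_mul, right_eq_mul] at k
    exact nw ((H'.aker _ (N1 _)).1 k)
  rcases R (fun p => ⟨p.1, 0, cond (lb false true p.2) F.w 0⟩) (by decide +kernel) (by decide +kernel) with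
    ⟨a1, a2⟩ | ⟨a1, a2⟩ <;>
  rcases R (fun p => ⟨0, p.1, cond (lb false true p.2) F.w 0⟩) (by decide +kernel) (by decide +kernel) with
    ⟨b1, b2⟩ | ⟨b1, b2⟩ <;>
  obtain ⟨x, z, e⟩ := a1 (1, 0) <;> obtain ⟨x', z', e'⟩ := b1 (F.w, 0) <;> obtain ⟨p, e0⟩ := a2 1 0 <;>
    obtain ⟨q, e1⟩ := b2 1 0 <;> obtain ⟨r, e2⟩ := b2 F.w 0
  exacts [k e e' (by simp [U.mul_def, add_comm]), fin (B.three (e0 ▸ e1 ▸ cf ..) (e0 ▸ e2 ▸ cf ..) (by decide)),
    fin (B.three (e0 ▸ e1 ▸ cf ..) (e0 ▸ e2 ▸ cf ..) (by decide)), k e e' (by simp [U.mul_def, add_comm])]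

theorem no_z {ρ : G →* G} (ρi : Function.Injective ρ)
    (ρK : ∀ x ∈ centralizer (A' : Set G), ρ x ∈ centralizer (A : Set G)) (nc : ¬ A ≤ centralizer (A' : Set G))
    (N2 : ∀ u, ψ u ∈ centralizer (A' : Set G) →
      ρ (ψ u) ∈ normalizer (A' : Set G) ⊓ normalizer (ψ'.range : Set G)) : False := by
  have z2 c : ψ ⟨0, 0, c⟩ * ψ ⟨0, 0, c⟩ = 1 := by rw [← map_mul, U.zsq, map_one]
  have z1 : ψ ⟨0, 0, 1⟩ ≠ 1 := H.ne (by decide)
  have hw := z_omega H H' kk hz N1 (ρK _ hz) (by rw [← map_mul, z2, map_one]) (by rwa [Ne, map_eq_one_iff _ ρi])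
    (N2 _ hz)
  have hM : h ∈ normalizer (A' : Set G) := H'.te _ hz (z2 _) z1 h (by rw [H.hconj]; exact hw)
  have Z c : ψ ⟨0, 0, c⟩ ∈ centralizer (A' : Set G) := by
    cases c
    exacts [map_one ψ ▸ one_mem _, hz, hw, by have := mul_mem hz hw; rwa [← map_mul] at this]
  have hc {u} (m : ψ u ∈ centralizer (A' : Set G)) : ψ (hh u) ∈ centralizer (A' : Set G) :=
    H.hconj u ▸ nor_cjK hM m
  have sp {k u} (hk : k ∈ centralizer (A : Set G)) (m : k * ψ u ∈ centralizer (A' : Set G)) :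
      ψ u ∈ centralizer (A' : Set G) := by
    have := mul_mem (inv_mem m) (nor_cjK hM m)
    rw [← conj_mul, cj_of_comm (mem_cen.1 hk h H.hA).symm, H.hconj, mul_inv_rev, mul_assoc, inv_mul_cancel_left,
      ← map_inv, ← map_mul] at this
    obtain ⟨c, e⟩ := U.fpf u
    rw [e, map_mul]
    exact mul_mem (hc this) (Z c)
  have one {u v} (hu : ψ u ∈ centralizer (A' : Set G)) (m : ρ (ψ u) * ψ v ∈ centralizer (A' : Set G)) : u = 1 :=
    H.inj (ρi ((eq_one_of_two (S := centralizer (A : Set G) ⊓ centralizer (A' : Set G))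
      (fun t ht => kk t ht.1 ht.2) ⟨ρK _ hu, (mul_mem_cancel_right (sp (ρK _ hu) m)).1 m⟩
      (by rw [← map_pow, psi4, map_one])).trans (by simp)))
  obtain ⟨u, hu⟩ : ∃ u, ψ u ∉ centralizer (A' : Set G) := by
    by_contra k
    push Not at k
    have le := H.gen (normalizer (A' : Set G)) (by rintro _ ⟨u, rfl⟩; exact (N1 u).1)
      (H'.te _ hz (z2 _) z1 _ (by rw [H.n1act]; exact k _)) (H'.te _ hz (z2 _) z1 _ (by rw [H.n2act]; exact k _))
      fun x hx => H'.nor_of_comm hz (z2 _) z1 (H.zK hx.2 _)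
    rcases PLocal.qs_normal H.simple _
      (⟨fun x hx a => nor_cjK (le a.2) hx⟩ : ((centralizer (A' : Set G)).subgroupOf A).Normal) with e | e
    · exact nc (subgroupOf_eq_top.1 e)
    · exact absurd (H.memK (u := ⟨0, 0, 1⟩) (mem_cen.2 fun a ha => congrArg Subtype.val
        (mem_center_iff.1 (e (show (⟨_, H.mem _⟩ : A) ∈ _ from hz)) ⟨a, ha⟩).symm)) (by decide)
  have pN (p : F × F) := mul_mem (N2 _ (Z p.1)) (N1 ⟨p.2 * u.x, p.2 * u.y, 0⟩)
  have key {m} (hm : m ∈ normalizer (A' : Set G) ⊓ normalizer (ψ'.range : Set G))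
      (c : ∀ p : F × F, α' m * α' (ρ (ψ ⟨0, 0, p.1⟩) * ψ ⟨p.2 * u.x, p.2 * u.y, 0⟩) =
        α' (ρ (ψ ⟨0, 0, p.1⟩) * ψ ⟨p.2 * u.x, p.2 * u.y, 0⟩) * α' m) :
      ∃ p q, (ρ (ψ ⟨0, 0, p⟩) * ψ ⟨q * u.x, q * u.y, 0⟩)⁻¹ * m ∈ centralizer (A' : Set G) := by
    obtain ⟨p, e⟩ := B.rank4_cen (fun p q => by
      obtain ⟨c, e⟩ := U.lineadd u.x u.y p.2 q.2
      rw [← H'.amul _ (pN _) _ (pN _)]
      refine (H'.aeq (mul_mem (pN _) (pN _)) (pN _) ?_).symm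
      rw [mul4 (H.zK (ρK _ (Z _)) _), ← map_mul, ← map_mul, ← U.zadd, mul_inv_rev, mul_assoc, Prod.fst_add,
        inv_mul_cancel_left, ← map_mul, ← map_inv, ← map_mul, Prod.snd_add, e]
      exact Z c) (fun p e => by
        have e := (H'.aker _ (pN _)).1 e
        have e1 := sp (ρK _ (Z _)) e
        refine Prod.ext (by_contra fun n => U.zne _ n (one (Z _) e)) (by_contra fun n => hu ?_)
        obtain ⟨c, k | k | k⟩ := U.line u _ n <;> rw [k, map_mul]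
        exacts [mul_mem e1 (Z c), mul_mem (hc e1) (Z c), mul_mem (hc (hc e1)) (Z c)]) c
    exact ⟨_, _, H'.of_aeq hm (pN p) e.symm⟩
  by_cases c : ∀ v, ψ v ∈ centralizer (A' : Set G) → ∃ c, v = ⟨0, 0, c⟩
  · obtain ⟨v, hv⟩ := U.off u.x u.y
    obtain ⟨p, q, e⟩ := key (N1 v) fun p => by
      obtain ⟨c, e⟩ := U.cmz ⟨p.2 * u.x, p.2 * u.y, 0⟩ v
      rw [← H'.amul _ (N1 _) _ (pN _), ← H'.amul _ (pN _) _ (N1 _)]
      refine H'.aeq (mul_mem (N1 _) (pN _)) (mul_mem (pN _) (N1 _)) ?_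
      rw [← mul_assoc (ψ v), ← (H.zK (ρK _ (Z _)) v).eq, mul_assoc, mul_assoc, mul_inv_rev, mul_assoc,
        inv_mul_cancel_left, ← map_mul, ← map_mul, ← map_inv, ← map_mul, e]
      exact Z c
    rw [← (H.zK (ρK _ (Z _)) _).eq.symm, mul_inv_rev, mul_assoc, ← map_inv ψ, ← map_mul] at e
    obtain ⟨c, e⟩ := c _ (sp (inv_mem (ρK _ (Z _))) e)
    exact hv q c e
  · push Not at c
    obtain ⟨v, hv, n⟩ := c
    obtain ⟨p, q, e⟩ := key (N2 v hv) fun p => by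
      rw [← H'.amul _ (N2 v hv) _ (pN _), ← H'.amul _ (pN _) _ (N2 v hv),
        ((((U.zc v _).map ψ).map ρ).mul_right (H.zK (ρK _ hv) _)).eq]
    rw [mul_inv_rev, mul_assoc, ← map_inv, ← map_inv, ← map_inv, ← map_mul, ← map_mul] at e
    have m := mul_mem (inv_mem (Z p)) hv
    rw [← map_inv, ← map_mul] at m
    exact n p (inv_mul_eq_one.1 (one m ((H.zK (ρK _ m) _).eq ▸ e))).symm

omit H' kk hz N1 in
theorem Cfg.step2 {a : G} (ha : a ∈ A) : ¬ IsD A a := fun hD => by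
  obtain ⟨b, hb, e, c⟩ := H.inner (le_normalizer ha) (fun k => hD.2.1 (H.cKA2 ha k hD.1)) hD.1 (H.nuA a ha)
  have z2 : ψ ⟨0, 0, 1⟩ * ψ ⟨0, 0, 1⟩ = 1 := by rw [← map_mul, U.zsq, map_one]
  have e := H.cKA2 (mul_mem (nor_cjA (le_normalizer hb) ha) (H.mem _)) e (by
    rw [mul4 c, (hD.cj b).1, z2, one_mul])
  obtain ⟨-, z1, g, hg⟩ := hD.cj b
  rw [eq_inv_of_mul_eq_one_left e, inv_eq_of_mul_eq_one_right z2] at z1 hg
  have hz : ψ ⟨0, 0, 1⟩ ∈ centralizer (cj g⁻¹ A : Set G) := cen_cj.2 (by simpa using hg)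
  have nr {x} (c : Commute x (ψ ⟨0, 0, 1⟩)) := (H.conj g⁻¹).nor_of_comm hz z2 z1 c
  have ρK x (hx : x ∈ centralizer (cj g⁻¹ A : Set G)) : (MulAut.conj g).toMonoidHom x ∈ centralizer (A : Set G) := by
    simpa using cen_cj.1 hx
  have le : cj g (ψ.range ⊓ centralizer (cj g⁻¹ A : Set G)) ≤ centralizer (A : Set G) := by
    rintro _ ⟨x, hx, rfl⟩; exact ρK x hx.2
  obtain ⟨-, -, ψ', α', ν', h', n1', n2', -, H', N⟩ := (H.conj g⁻¹).adapt
    (pg_sup (((pg_range ψ).to_inf_left).map _) le H.mem) (sup_le (fun x hx => nr (H.zK (le hx) _))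
      (by rintro _ ⟨u, rfl⟩; exact nr ((U.zc u _).map ψ)))
  exact no_z H H' (fun t => H.kk fun m => z1 (H.cKA (H.mem _) (by rwa [cj_eq m] at hz) (psi4 _))) hz
    (fun u => N (mem_sup_right ⟨u, rfl⟩)) (MulAut.conj g).injective ρK (fun k => H.nc g fun a ha => ρK a (k ha))
    fun u hu => N (mem_sup_left ⟨_, ⟨⟨u, rfl⟩, hu⟩, rfl⟩)

end Cfsg.Agent.L4S.Q
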