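import Cfsg.Agent.L4C.Basic

/-! Normalising the parameters. -/

set_option autoImplicit false
set_option synthInstance.maxSize 4000
set_option maxRecDepth 100000

namespace Cfsg.Agent.L4S.Q

open Subgroup

variable {G : Type*} [Group G] {A : Subgroup G} {ψ : U →* G} {α : G → B} {ν : G → Bool × Bool} {h n1 n2 : G}
  {b : Bool} {r : F → G} {g : G} {D : Subgroup G} {s : F → G} {κ1 κ2 : F}

namespace E0

open L4S.E0

theorem hpow (H : Cfg A ψ α ν h n1 n2) (k : Fin 3) (x y z : F) :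
    h ^ k.1 * ψ ⟨x, y, z⟩ * (h ^ k.1)⁻¹ = ψ ⟨ex (-k) * x, ex (-k) * y, ex k * z⟩ := by
  fin_cases k
  · simp only [pow_zero, one_mul, inv_one, mul_one]; congr 1
  · simp only [pow_one, H.hact]; rfl
  · simp only [pow_two, cj_mul, H.hact]; congr 1; revert x y z; decide +kernel

theorem h_mem (H : Cfg A ψ α ν h n1 n2) {X : Subgroup G} (a : ψ.range ≤ X) (c : n2 ∈ X)
    (d : A ⊓ centralizer (A : Set G) ≤ X) : h ∈ X := by
  have k1 : ∀ c y z, ψ ⟨c, 0, 0⟩ * ψ ⟨0, y, z⟩ * (ψ ⟨c, 0, 0⟩)⁻¹ = ψ ⟨0, y, z + c * y⟩ := fun c y z => by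
    rw [← map_inv, ← map_mul, ← map_mul]; congr 1; revert c y z; decide +kernel
  have hW : ∀ {Y : Subgroup G}, ψ.range ≤ Y → n2 ∈ Y →
      ψ ⟨F.v, 0, 0⟩ * (n2 * (ψ ⟨F.w, 0, 0⟩ * (n2 * (ψ ⟨F.v, 0, 0⟩ * n2)))) ∈ Y := fun a c =>
    mul_mem (a ⟨_, rfl⟩) (mul_mem c (mul_mem (a ⟨_, rfl⟩) (mul_mem c (mul_mem (a ⟨_, rfl⟩) c))))
  have hA := mul_mem (hW (by rintro _ ⟨u, rfl⟩; exact H.mem u) H.n2A) H.hA
  obtain ⟨y, z, e⟩ := H.cenV2 (le_normalizer hA) fun y z => comm_of_cj (by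
    simp only [cj_mul, H.hact, mul_zero, H.n2act, k1]; congr 1; revert y z; decide +kernel)
  exact (X.mul_mem_cancel_left (hW a c)).1 ((X.mul_mem_cancel_left (inv_mem (a ⟨_, rfl⟩))).1
    (d (mem_inf.2 ⟨mul_mem (inv_mem (H.mem _)) hA, e⟩)))

theorem cfg_twist (H : Cfg A ψ α ν h n1 n2) (k : Fin 3) :
    Cfg A (ψ.comp (δh k)) (fun x => (⟨1, δ k⟩ : B)⁻¹ * α x * ⟨1, δ k⟩) ν h (h ^ k.1 * n1) n2 := by
  have e : ∀ x y z, (ψ.comp (δh k)) ⟨x, y, z⟩ = ψ ⟨x, ex k * y, ex k * z⟩ :=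
    fun x y z => congrArg ψ (δh_apply k x y z)
  have e1 : h ^ k.1 * (n1 * h ^ k.1 * n1⁻¹) ∈ centralizer (A : Set G) := by
    have := pow_mem H.n1h k.1
    have c : Commute (n1 * h * n1⁻¹) h := by simpa using (mem_cen.1 H.n1h _ H.hA).mul_left (Commute.refl h).inv_left
    rwa [c.mul_pow, (c.pow_pow _ _).eq, conj_pow] at this
  refine ⟨H.inj.comp fun a b e => by rw [← (δh_inv k a).2, e, (δh_inv k b).2], fun u => H.mem _, ?_, ?_,
    fun u => by rw [MonoidHom.comp_apply, H.apsi, δ_inl],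
    H.numul, H.nuA, ?_, H.hA, by rw [range_δ]; exact H.hN,
    by rw [H.ah]; clear * -; revert k; decide +kernel, H.h3, mul_mem (pow_mem H.hA _) H.n1A,
    by rw [show h ^ k.1 * n1 * (h ^ k.1 * n1) = h ^ k.1 * (n1 * h ^ k.1 * n1⁻¹) * (n1 * n1) by group]
       exact mul_mem e1 H.n1sq,
    by rw [show h ^ k.1 * n1 * h * (h ^ k.1 * n1)⁻¹ * h = h ^ k.1 * (n1 * h * n1⁻¹ * h) * (h ^ k.1)⁻¹ by group]
       exact nor_cjK (le_normalizer (pow_mem H.hA _)) H.n1h, fun x z => ?_,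
    H.n2A, H.n2sq, H.n2h, fun x z => by rw [e, e, H.n2act],
    fun a ha c => ?_, by rw [range_δ]; exact H.syl, H.zc, H.simple,
    fun X a b c d => ?_, H.te, H.nc, H.ex⟩
  · rw [range_δ]; intro a ha b hb; rw [H.amul a ha b hb]; group
  · rw [range_δ]; intro a ha; rw [← H.aker a ha]; simp [mul_assoc, inv_mul_eq_one]
  · rw [range_δ]; intro a ha; rw [H.nua a ha]
    exact (by decide +kernel : ∀ (k : Fin 3) (t : Tau), (t.i, t.j) = (((δ k)⁻¹ * t * δ k).i, ((δ k)⁻¹ * t * δ k).j))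
      k (α a).t
  · rw [e, e, mul_zero, cj_mul, H.n1act, hpow H]; congr 1; clear * -; revert k x z; decide +kernel
  · rw [e, mul_zero, mul_one, show ψ ⟨0, 0, ex k⟩ = h ^ k.1 * ψ ⟨0, 0, 1⟩ * (h ^ k.1)⁻¹ by
      simp [hpow H]] at c
    obtain ⟨u, this⟩ := H.fa _ (nor_cjA (le_normalizer (inv_mem (pow_mem H.hA k.1))) ha)
      (by simpa using (comm_cj' c.symm).symm)
    obtain ⟨u', e'⟩ := act_of_nor (pow_mem H.hN k.1) u
    refine ⟨δh (-k) u', ?_⟩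
    rw [MonoidHom.comp_apply, (δh_inv k u').1, ← e']
    simpa [mul_assoc] using nor_cjK (le_normalizer (pow_mem H.hA k.1)) this
  · rw [range_δ] at a
    exact H.gen X a ((X.mul_mem_cancel_left (pow_mem (h_mem H a c d) _)).1 b) c d

theorem st1_twist (H : St1 A ψ α ν h n1 n2 true r g) (k : Fin 3) :
    St1 A (ψ.comp (δh k)) (fun x => (⟨1, δ k⟩ : B)⁻¹ * α x * ⟨1, δ k⟩) ν h (h ^ k.1 * n1) n2 true
      (fun p => r (ex k * p)) g := by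
  have e : ∀ z, (ψ.comp (δh k)) ⟨0, 0, z⟩ = ψ ⟨0, 0, ex k * z⟩ :=
    fun z => congrArg ψ ((δh_apply k 0 0 z).trans (by simp))
  have i := ex_i k
  have i0 : ∀ p, p ≠ 0 → ex k * p ≠ 0 := by clear * -; revert k; decide
  refine ⟨cfg_twist H.toCfg k, fun p q _ _ => by rw [mul_add, H.radd _ _ (sp _) (sp _)],
    fun p _ => H.rK _ (sp _), fun p _ hp => H.rne _ (sp _) (i0 p hp), fun c hc h1 h2 => ?_, fun P h1 h2 => ?_,
    H.da, H.gM, by rw [range_δ]; exact H.gN, fun p _ => ?_, fun q _ => ?_, fun c hc p _ hp h1 => ?_⟩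
  · obtain ⟨p, -, hp⟩ := H.rcen c hc h1 fun p _ => i p ▸ h2 _ (sp _)
    exact ⟨_, sp _, by rw [i, hp]⟩
  · obtain ⟨c, hc, h3⟩ := H.rsyl P h1 h2
    refine ⟨c, hc, fun x hx => ?_⟩
    obtain ⟨p, -, hp⟩ := h3 x hx
    exact ⟨_, sp _, by rw [i, hp]⟩
  · obtain ⟨q, -, hq⟩ := H.gr (ex k * p) (sp _)
    exact ⟨_, sp _, by rw [i, hq, e]⟩
  · obtain ⟨p, -, hp⟩ := H.gr' (ex k * q) (sp _)
    exact ⟨ex (-k) * p, sp _, by rw [e, i, hp]⟩
  · obtain ⟨q, -, hq⟩ := H.ck c hc _ (sp _) (i0 p hp) h1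
    exact ⟨_, sp _, by rwa [i]⟩

theorem st2_twist (H : St2 A ψ α ν h n1 n2 true r g D s κ1 κ2) (k : Fin 3) (hk : ex (-k) = κ1) :
    St2 A (ψ.comp (δh k)) (fun x => (⟨1, δ k⟩ : B)⁻¹ * α x * ⟨1, δ k⟩) ν h (h ^ k.1 * n1) n2 true
      (fun p => r (ex k * p)) g D s 1 (κ1 * κ2) := by
  subst hk
  have e : ∀ x y z, (ψ.comp (δh k)) ⟨x, y, z⟩ = ψ ⟨x, ex k * y, ex k * z⟩ :=
    fun x y z => congrArg ψ (δh_apply k x y z)
  have i := ex_i k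
  have hs : ∀ q, h ^ k.1 * s q * (h ^ k.1)⁻¹ = s (ex k * q) := fun q => by
    fin_cases k
    · simp only [pow_zero, one_mul, inv_one, mul_one]; congr 1
    · simp only [pow_one, H.hs]; rfl
    · simp only [pow_two, cj_mul, H.hs]; congr 1; revert q; decide
  have e1 : ∀ m, h ^ k.1 * n1 * s m * (h ^ k.1 * n1)⁻¹ = n1 * s (ex (-k) * m) * n1⁻¹ := fun m => by
    rw [H.hn, ← i m, ← hs, i]; group
  have al : ∀ {P : F → Prop}, (∀ p, Sp true p → P (ex k * p)) ↔ ∀ p, Sp true p → P p :=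
    ⟨fun h p _ => i p ▸ h _ (sp _), fun h p _ => h _ (sp _)⟩
  refine ⟨st1_twist H.toSt1 k, fun d => by rw [H.memD, al (P := fun p => Commute d (r p))], fun c hc h1 => ?_,
    H.sadd, fun q u => H.sU q _, H.sD, fun p q _ => by rw [e, H.rs _ _ (sp _), mul_zero, mul_assoc (ex k)], H.hs,
    fun m q => ?_, fun y m => ⟨sp _, ?_⟩, fun m q => ?_, fun x m => ⟨sp _, ?_⟩⟩
  · obtain ⟨p, -, hp⟩ := H.cD c hc ((al (P := fun p => Commute c (r p))).1 h1)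
    exact ⟨_, sp _, by rwa [i]⟩
  · rw [e1, H.as1, e]; congr 2; clear * -; revert k m q; decide +kernel
  · obtain ⟨x, z, hx⟩ := (H.ya1 (ex k * y) (ex (-k) * m)).2
    refine ⟨x, ex (-k) * z, ?_⟩
    rw [e1, e, e, mul_zero, i, hx]
    obtain ⟨k1, k2⟩ := (by decide +kernel : ∀ (k : Fin 3) (y m : F), ex k * y * (ex (-k) * m) = y * m ∧
      ex (-k) * (ex k * y) * (ex (-k) * m) * (ex (-k) * m) = ex k * (1 * y * m * m)) k y m
    rw [k1, k2]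
  · rw [H.as2, e]; congr 2; clear * -; revert k m q κ2; decide +kernel
  · obtain ⟨y, z, hx⟩ := (H.ya2 x m).2
    refine ⟨ex (-k) * y, ex (-k) * z, ?_⟩
    rw [e, e, mul_zero, i, i, hx, mul_assoc (ex (-k)), mul_assoc (ex (-k)), mul_assoc (ex (-k)), i]

section

variable (H : St2 A ψ α ν h n1 n2 true r g D s κ1 κ2)
include H

theorem s0 : s 0 = 1 := by simpa using H.sadd 0 0

theorem rψ (p : F) (u : U) : Commute (r p) (ψ u) := mem_cen.1 (H.rK p (sp p)) _ (H.mem u)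

theorem sr (p q : F) : s q * r p = ψ ⟨0, 0, q * p⟩ * (r p * s q) := by
  have e := H.rs p q (sp p)
  rw [mul_inv_eq_iff_eq_mul, (H.sU q _).eq] at e
  rw [e, ← mul_assoc, ← mul_assoc, ← map_mul, show (⟨0, 0, q * p⟩ * ⟨0, 0, p * q⟩ : U) = 1 by
    clear * -; revert p q; decide, map_one, one_mul]

/-- the group `U R S` -/
def rho : PP →* G := MonoidHom.mk' (fun u => ψ ⟨u.x, u.y, u.z⟩ * r u.p * s u.q) fun a b => by
  have e : (⟨(a * b).x, (a * b).y, (a * b).z⟩ : U) = ⟨a.x, a.y, a.z⟩ * ⟨b.x, b.y, b.z⟩ * ⟨0, 0, a.q * b.p⟩ := by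
    simp [PP.mul_def, U.mul_def]
  rw [e, map_mul, map_mul, show (a * b).p = a.p + b.p from rfl, show (a * b).q = a.q + b.q from rfl,
    H.radd _ _ (sp _) (sp _), H.sadd]
  simp only [mul_assoc]
  rw [(H.sU a.q _).left_comm, (rψ H a.p _).left_comm, ← mul_assoc (s a.q) (r b.p), sr H, mul_assoc,
    (rψ H a.p _).left_comm, mul_assoc]

theorem rho_apply (x y p q z : F) : rho H ⟨x, y, p, q, z⟩ = ψ ⟨x, y, z⟩ * r p * s q := rfl

theorem rho_ψ (x y z : F) : rho H ⟨x, y, 0, 0, z⟩ = ψ ⟨x, y, z⟩ := by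
  rw [rho_apply, H.toSt1.r0, s0 H, mul_one, mul_one]

theorem rho_r (p : F) : rho H ⟨0, 0, p, 0, 0⟩ = r p := by
  rw [rho_apply, ← U.one_def, map_one, s0 H, mul_one, one_mul]

theorem rho_s (q : F) : rho H ⟨0, 0, 0, q, 0⟩ = s q := by
  rw [rho_apply, ← U.one_def, map_one, H.toSt1.r0, mul_one, one_mul]

theorem step {m : F} (hm : m ≠ 0) (x y p q z : F) : ∃ z', n1 * s m * n1⁻¹ * (ψ ⟨x, y, z⟩ * r p * s q) *
    (n1 * s m * n1⁻¹)⁻¹ = ψ ⟨x + κ1 * y + p * m + κ1 * m * m * q, y, z'⟩ * r (p + κ1 * y * m * m) * s (q + y * m) := by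
  have aa : n1 * s m * n1⁻¹ * (n1 * s m * n1⁻¹) = 1 := by
    rw [show n1 * s m * n1⁻¹ * (n1 * s m * n1⁻¹) = n1 * (s m * s m) * n1⁻¹ by group, ← H.sadd, F.add_self, s0 H]
    simp
  have a1 : ∀ x z, Commute (n1 * s m * n1⁻¹) (ψ ⟨x, 0, z⟩) := fun x z => by
    rw [← H.n1act]; exact comm_cj (H.sU _ _) _
  have a2 : r p * (n1 * s m * n1⁻¹) * (r p)⁻¹ = n1 * s m * n1⁻¹ * ψ ⟨p * m, 0, 0⟩ := by
    have c := (mem_cen.1 (H.rK p (sp p)) _ H.n1A).eq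
    rw [← cj_mul, c, cj_mul, H.rs _ _ (sp p), ← H.n1act 0]; group
  have a3 := H.as1 m q
  have a4 := (H.ya1 y m).2
  generalize n1 * s m * n1⁻¹ = a at aa a1 a2 a3 a4
  have ai : a⁻¹ = a := inv_eq_of_mul_eq_one_left aa
  have b1 : ∀ x z, a * rho H ⟨x, 0, 0, 0, z⟩ * a⁻¹ = rho H ⟨x, 0, 0, 0, z⟩ := fun x z => by
    rw [rho_ψ, cj_of_comm (a1 x z)]
  have b2 : a * rho H ⟨0, 0, p, 0, 0⟩ * a⁻¹ = rho H (⟨p * m, 0, 0, 0, 0⟩ * ⟨0, 0, p, 0, 0⟩) := by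
    rw [map_mul, rho_ψ, rho_r, ai, ← inv_mul_cancel_left a (ψ _), ← a2, ai]; group
  have b3 : a * rho H ⟨0, 0, 0, q, 0⟩ * a⁻¹ =
      rho H (⟨0, 0, 0, q, 0⟩ * ⟨κ1 * m * m * q, 0, 0, 0, κ1 * m * q * q⟩) := by
    rw [map_mul, rho_ψ, rho_s, a3]
  obtain ⟨z1, b4⟩ : ∃ z, a * rho H ⟨0, y, 0, 0, 0⟩ * a⁻¹ = rho H ⟨κ1 * y, y, κ1 * y * m * m, y * m, z⟩ := by
    by_cases hy : y = 0
    · exact ⟨0, by simp [hy, ← PP.one_def]⟩
    obtain ⟨x, z, e⟩ := a4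
    have e1 : a * rho H ⟨0, y, 0, 0, 0⟩ * a⁻¹ = rho H (⟨0, 0, 0, y * m, 0⟩ * ⟨0, 0, κ1 * y * m * m, 0, 0⟩ *
        ⟨x, 0, 0, 0, z⟩ * ⟨0, y, 0, 0, 0⟩) := by
      simp only [map_mul, rho_ψ, rho_r, rho_s]
      rw [← inv_mul_cancel_left a (s _), ← mul_assoc a⁻¹, mul_assoc a⁻¹, mul_assoc a⁻¹, mul_assoc a⁻¹, ← e, ai]
      group
    have e2 := congrArg (fun x => x * x) e1
    simp only [conj_mul, ← map_mul, PP.sq_eq, PP.zz, rho_ψ] at e2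
    simp only [PP.mul_def, U.mul_def, F.add_self, zero_add, add_zero, mul_zero, zero_mul, ← U.one_def, map_one,
      mul_one, mul_inv_cancel] at e1 e2
    have e3 := congrArg U.z (H.inj (ψ.map_one.trans e2))
    have e4 : x = κ1 * y := (by decide +kernel : ∀ x y k m : F, y ≠ 0 → m ≠ 0 →
      0 = x * y + k * y * m * m * (y * m) → x = k * y) x y κ1 m hy hm e3
    exact ⟨_, e4 ▸ e1⟩
  have e : (⟨x, y, p, q, z⟩ : PP) = ⟨x, 0, 0, 0, z + x * y⟩ * ⟨0, y, 0, 0, 0⟩ * ⟨0, 0, p, 0, 0⟩ * ⟨0, 0, 0, q, 0⟩ := by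
    simp [PP.mul_def, add_assoc]
  rw [← rho_apply H, e, map_mul, map_mul, map_mul, ← conj_mul, ← conj_mul, ← conj_mul, b1, b2, b3, b4,
    ← map_mul, ← map_mul, ← map_mul]
  simp only [PP.mul_def, zero_add, add_zero, rho_apply]
  exact ⟨_, by rw [add_comm p, add_comm q]⟩

end

/-- some element with the given coordinates is conjugate into `C(A)` -/
def Pd (A : Subgroup G) (ψ : U →* G) (r s : F → G) (x y p q : F) : Prop := ∃ z, IsD A (ψ ⟨x, y, z⟩ * r p * s q)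

theorem step1 (H : St2 A ψ α ν h n1 n2 true r g D s κ1 κ2) {m : F} (hm : m ≠ 0) {x y p q : F}
    (e : Pd A ψ r s x y p q) : Pd A ψ r s (x + κ1 * y + p * m + κ1 * m * m * q) y (p + κ1 * y * m * m) (q + y * m) := by
  obtain ⟨z, e⟩ := e
  obtain ⟨z', e'⟩ := step H hm x y p q z
  exact ⟨z', e' ▸ e.cj _⟩

theorem pd_θ {x y p q : F} : Pd A (ψ.comp θ) r s x y p q ↔ Pd A ψ r s y x p q :=
  ⟨fun ⟨z, e⟩ => ⟨z + x * y, by rwa [← θ_apply]⟩, fun ⟨z, e⟩ => ⟨z + x * y, by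
    rwa [MonoidHom.comp_apply, θ_apply, add_assoc, F.add_self, add_zero]⟩⟩

theorem step2 (H : St2 A ψ α ν h n1 n2 true r g D s κ1 κ2) {m : F} (hm : m ≠ 0) {x y p q : F}
    (e : Pd A ψ r s x y p q) : Pd A ψ r s x (y + κ2 * x + p * m + κ2 * m * m * q) (p + κ2 * x * m * m) (q + x * m) :=
  pd_θ.1 (step1 H.dual hm (pd_θ.2 e))

theorem kappa (H : St2 A ψ α ν h n1 n2 true r g D s 1 κ2) : κ2 = 1 := by
  have h0 : Pd A ψ r s 0 0 1 0 := ⟨0, by rw [← rho_apply H, rho_r]; exact H.toSt1.rD (sp _) one_ne_zero⟩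
  have h1 : ∀ x y p q, Pd A ψ r s x y p q → p = 0 → q = 0 → False := by
    rintro x y _ _ ⟨z, e⟩ rfl rfl
    rw [← rho_apply H, rho_ψ] at e
    exact H.da _ (H.mem _) e
  cases κ2
  · exact (h1 _ _ _ _ (step1 H one_ne_zero (step2 H one_ne_zero (step1 H one_ne_zero h0))) rfl rfl).elim
  · rfl
  · exact (h1 _ _ _ _ (step2 H one_ne_zero (step1 H (m := F.v) (by decide) (step2 H (m := F.w) (by decide) h0)))
      rfl rfl).elim
  · exact (h1 _ _ _ _ (step2 H one_ne_zero (step1 H (m := F.w) (by decide) (step2 H (m := F.v) (by decide) h0)))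
      rfl rfl).elim

end E0

theorem St2.normalise (H : St2 A ψ α ν h n1 n2 b r g D s κ1 κ2) (hκ : κ1 ≠ 0) :
    ∃ ψ' α' n1' r', St2 A ψ' α' ν h n1' n2 true r' g D s 1 1 := by
  obtain rfl : b = true := (by decide : ∀ (b : Bool) (k : F), k ≠ 0 → (∀ y, Sp b (k * y * 1 * 1)) → b = true)
    b κ1 hκ fun y => (H.ya1 y 1).1
  obtain ⟨k, hk⟩ := (by decide : ∀ c : F, c ≠ 0 → ∃ k, ex (-k) = c) κ1 hκ
  have H' := E0.st2_twist H k hk
  exact ⟨_, _, _, _, E0.kappa H' ▸ H'⟩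

end Cfsg.Agent.L4S.Q
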